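import Groth.Agent.Fixpt.H908.StalkProj
import Groth.Agent.Etcore.ExtAdj
import Groth.Agent.Sga4A.IntegralSection
import Groth.Agent.Sga4B.ModEtInst

/-!
# Direct images of sheaves of `Λ`-modules along finite morphisms

For `c : A ⟶ X` integral:
* `preservesFiniteColimits_push`, `preservesFiniteLimits_push`, `additive_push`: `c_*` is exact;
* `bijective_Hedge`: the edge maps `FixPt.Hedge c M n` are bijective; `Hedge_naturality`;
* `edge c M n : H^n(A, M) ≃+ H^n(X, c_* M)` the inverse of `Hedge`.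
-/

set_option autoImplicit false
set_option backward.isDefEq.respectTransparency.types false
universe u

open CategoryTheory CategoryTheory.Limits CategoryTheory.Abelian AlgebraicGeometry Opposite

attribute [local instance] HasDerivedCategory.standard

namespace Groth.Agent.Fixpt.H908.FinPush

open Groth.Agent.Etcore.ExtAdj Groth.Agent.Sga4B.ModEtInst

variable {Λ : Type (u + 1)} [CommRing Λ] {T A X : Scheme.{u}}

/-- Direct images along integral morphisms are exact. -/
theorem preservesFiniteColimits_push (f : A ⟶ X) [IsIntegralHom f] :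
    PreservesFiniteColimits (EtModW.push Λ f) := by
  have h1 : PreservesFiniteColimits (EtCoh.push f) := Sga4A.EtSplit.preservesFiniteColimits_push f
  have h2 : PreservesFiniteColimits (EtModW.push Λ f ⋙ Etrest.ModAb.ab Λ X) :=
    preservesFiniteColimits_of_natIso (Etrest.ModAb.pushIso Λ f).symm
  exact preservesFiniteColimits_of_reflects_of_preserves _ (Etrest.ModAb.ab Λ X)

theorem preservesFiniteLimits_push (f : A ⟶ X) : PreservesFiniteLimits (EtModW.push Λ f) :=
  have : PreservesLimitsOfSize.{0, 0} (EtModW.push Λ f) :=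
    (FixPt.pullPushAdj (Λ := Λ) f).rightAdjoint_preservesLimits
  PreservesLimitsOfSize.preservesFiniteLimits _

theorem additive_push (f : A ⟶ X) : (EtModW.push Λ f).Additive :=
  have := preservesFiniteLimits_push (Λ := Λ) f
  Functor.additive_of_preserves_binary_products _

section Hedge

variable (f : A ⟶ X) [PreservesFiniteLimits (EtModW.pull Λ f)]

theorem Hpull_apply (L : EtModW.Mod Λ X) (n : ℕ) (x : FixPt.HM Λ X L n) :
    FixPt.Hpull f L n x = (Ext.mk₀ (FixPt.pullUnit f).inv).comp (x.mapExactFunctor (EtModW.pull Λ f))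
      (zero_add n) := rfl

theorem Hedge_apply (M : EtModW.Mod Λ A) (n : ℕ) (x : FixPt.HM Λ X ((EtModW.push Λ f).obj M) n) :
    FixPt.Hedge f M n x = ((Ext.mk₀ (FixPt.pullUnit f).inv).comp (x.mapExactFunctor (EtModW.pull Λ f))
      (zero_add n)).comp (Ext.mk₀ ((FixPt.pullPushAdj f).counit.app M)) (add_zero n) := rfl

theorem Hpull_naturality {L L' : EtModW.Mod Λ X} (φ : L ⟶ L') (n : ℕ) (x : FixPt.HM Λ X L n) :
    FixPt.Hpull f L' n (x.comp (Ext.mk₀ φ) (add_zero n)) =
      (FixPt.Hpull f L n x).comp (Ext.mk₀ ((EtModW.pull Λ f).map φ)) (add_zero n) := by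
  rw [Hpull_apply, Hpull_apply, Ext.mapExactFunctor_comp, Ext.mapExactFunctor_mk₀,
    Ext.comp_assoc_of_third_deg_zero]

theorem Hedge_naturality {M M' : EtModW.Mod Λ A} (φ : M ⟶ M') (n : ℕ)
    (x : FixPt.HM Λ X ((EtModW.push Λ f).obj M) n) :
    FixPt.Hedge f M' n (x.comp (Ext.mk₀ ((EtModW.push Λ f).map φ)) (add_zero n)) =
      (FixPt.Hedge f M n x).comp (Ext.mk₀ φ) (add_zero n) := by
  have h := (FixPt.pullPushAdj (Λ := Λ) f).counit.naturality φ
  have h1 : FixPt.Hedge f M' n (x.comp (Ext.mk₀ ((EtModW.push Λ f).map φ)) (add_zero n)) =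
    (FixPt.Hpull f _ n (x.comp (Ext.mk₀ ((EtModW.push Λ f).map φ)) (add_zero n))).comp
      (Ext.mk₀ ((FixPt.pullPushAdj f).counit.app M')) (add_zero n) := rfl
  have h2 : FixPt.Hedge f M n x = (FixPt.Hpull f _ n x).comp
      (Ext.mk₀ ((FixPt.pullPushAdj f).counit.app M)) (add_zero n) := rfl
  rw [h1, h2, Hpull_naturality, Ext.comp_assoc_of_third_deg_zero, Ext.comp_assoc_of_third_deg_zero,
    Ext.mk₀_comp_mk₀, Ext.mk₀_comp_mk₀]
  congr 2

/-- The edge maps are bijective for integral morphisms. -/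
theorem bijective_Hedge [IsIntegralHom f] (M : EtModW.Mod Λ A) (n : ℕ) :
    Function.Bijective (FixPt.Hedge f M n) := by
  have i1 := preservesFiniteColimits_push (Λ := Λ) f
  have i2 := preservesFiniteLimits_push (Λ := Λ) f
  have i3 := additive_push (Λ := Λ) f
  have h1 : ∀ x, FixPt.Hedge f M n x = (Ext.mk₀ (FixPt.pullUnit f).inv).comp
      ((extAdj (FixPt.pullPushAdj (Λ := Λ) f) (FixPt.unit Λ X) M n).symm x) (zero_add n) := by
    intro x
    rw [Hedge_apply, extAdj_symm_apply, Ext.comp_assoc_of_third_deg_zero]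
  have h2 : Function.Bijective (fun y : Ext.{u + 1} ((EtModW.pull Λ f).obj (FixPt.unit Λ X)) M n =>
      (Ext.mk₀ (FixPt.pullUnit f).inv).comp y (zero_add n)) := by
    constructor
    · intro y y' h
      have h3 := congrArg (fun y => (Ext.mk₀ (FixPt.pullUnit f).hom).comp y (zero_add n)) h
      dsimp only at h3
      rw [← Ext.comp_assoc_of_second_deg_zero, ← Ext.comp_assoc_of_second_deg_zero, Ext.mk₀_comp_mk₀,
        Iso.hom_inv_id, Ext.mk₀_id_comp, Ext.mk₀_id_comp] at h3
      exact h3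
    · intro y
      refine ⟨(Ext.mk₀ (FixPt.pullUnit f).hom).comp y (zero_add n), ?_⟩
      dsimp only
      rw [← Ext.comp_assoc_of_second_deg_zero, Ext.mk₀_comp_mk₀, Iso.inv_hom_id, Ext.mk₀_id_comp]
  have h3 := h2.comp (extAdj (FixPt.pullPushAdj (Λ := Λ) f) (FixPt.unit Λ X) M n).symm.bijective
  have h4 : (FixPt.Hedge f M n : _ → _) = (fun y : Ext.{u + 1} ((EtModW.pull Λ f).obj (FixPt.unit Λ X)) M n =>
      (Ext.mk₀ (FixPt.pullUnit f).inv).comp y (zero_add n)) ∘
        (extAdj (FixPt.pullPushAdj (Λ := Λ) f) (FixPt.unit Λ X) M n).symm := funext h1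
  rw [h4]
  exact h3

/-- `H^n(A, M) ≃ H^n(X, f_* M)`, the inverse of `FixPt.Hedge`. -/
noncomputable def edge [IsIntegralHom f] (M : EtModW.Mod Λ A) (n : ℕ) :
    FixPt.HM Λ A M n ≃+ FixPt.HM Λ X ((EtModW.push Λ f).obj M) n :=
  (AddEquiv.ofBijective (FixPt.Hedge f M n) (bijective_Hedge f M n)).symm

theorem Hedge_edge [IsIntegralHom f] (M : EtModW.Mod Λ A) (n : ℕ) (y : FixPt.HM Λ A M n) :
    FixPt.Hedge f M n (edge f M n y) = y :=
  (AddEquiv.ofBijective (FixPt.Hedge f M n) (bijective_Hedge f M n)).apply_symm_apply y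

theorem edge_Hedge [IsIntegralHom f] (M : EtModW.Mod Λ A) (n : ℕ)
    (x : FixPt.HM Λ X ((EtModW.push Λ f).obj M) n) : edge f M n (FixPt.Hedge f M n x) = x :=
  (AddEquiv.ofBijective (FixPt.Hedge f M n) (bijective_Hedge f M n)).symm_apply_apply x

theorem edge_naturality [IsIntegralHom f] {M M' : EtModW.Mod Λ A} (φ : M ⟶ M') (n : ℕ)
    (y : FixPt.HM Λ A M n) :
    edge f M' n (y.comp (Ext.mk₀ φ) (add_zero n)) =
      (edge f M n y).comp (Ext.mk₀ ((EtModW.push Λ f).map φ)) (add_zero n) := by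
  apply (bijective_Hedge f M' n).1
  rw [Hedge_edge, Hedge_naturality, Hedge_edge]

end Hedge

end Groth.Agent.Fixpt.H908.FinPush
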